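import Mathlib

/-!
# Reflexive modules with trivial endomorphism ring over reduced rings of dimension at most one
-/

set_option autoImplicit false
set_option linter.unusedSectionVars false
set_option linter.style.haveILetI false

universe u

namespace Groth.Agent.ReflRankOne

variable {S : Type u} [CommRing S] [IsReduced S] [IsNoetherianRing S]
variable (M : Type u) [AddCommGroup M] [Module S M]

/-- An element avoiding a minimal prime and killing it. -/
theorem exists_kill {P : Ideal S} (hP : P ∈ minimalPrimes S) : ∃ t ∉ P, ∀ p ∈ P, t * p = 0 := by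
  classical
  let T : Finset (Ideal S) := (minimalPrimes.finite_of_isNoetherianRing S).toFinset.erase P
  have hPp : P.IsPrime := hP.1.1
  have hT : ¬ T.inf id ≤ P := fun h => by
    obtain ⟨Q, hQ, hQP⟩ := (Ideal.IsPrime.inf_le' hPp).1 h
    obtain ⟨hne, hQm⟩ := Finset.mem_erase.1 hQ
    exact hne (le_antisymm hQP (hP.2 ⟨((Set.Finite.mem_toFinset _).1 hQm).1.1, bot_le⟩ hQP))
  obtain ⟨t, ht, htP⟩ := SetLike.not_le_iff_exists.1 hT
  refine ⟨t, htP, fun p hp => IsReduced.eq_zero _ (show t * p ∈ nilradical S from ?_)⟩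
  rw [nilradical_eq_sInf, Ideal.mem_sInf]
  intro Q hQ
  haveI : Q.IsPrime := hQ
  obtain ⟨Q', hQ', hle⟩ := Ideal.exists_minimalPrimes_le (bot_le : ⊥ ≤ Q)
  refine hle ?_
  rcases eq_or_ne Q' P with rfl | hne
  · exact Q'.mul_mem_left _ hp
  · exact Q'.mul_mem_right _ ((Finset.inf_le (f := id) (Finset.mem_erase.2
      ⟨hne, (Set.Finite.mem_toFinset _).2 hQ'⟩) : T.inf id ≤ Q') ht)

variable [Module.IsReflexive S M]

/-- An element killing all values of all functionals kills the module. -/
theorem smul_eq_zero_of_values {c : S} (h : ∀ (φ : Module.Dual S M) x, c * φ x = 0) (x : M) : c • x = 0 := by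
  refine (Module.bijective_dual_eval S M).1 (LinearMap.ext fun φ => ?_)
  rw [map_zero, LinearMap.zero_apply, Module.Dual.eval_apply, map_smul, smul_eq_mul]
  exact h φ x

variable [Module.Finite S M] (hdim : ringKrullDim S ≤ 1) (hend : Function.Bijective (algebraMap S (Module.End S M)))

include hend in
theorem eq_zero_of_smul {c : S} (h : ∀ x : M, c • x = 0) : c = 0 :=
  hend.1 (LinearMap.ext fun x => by rw [Module.algebraMap_end_apply, h, map_zero, LinearMap.zero_apply])

include hdim hend in
/-- Some functional takes a value outside a given prime. -/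
theorem exists_notMem (P : Ideal S) [P.IsPrime] : ∃ (φ : Module.Dual S M) (x : M), φ x ∉ P := by
  by_contra hcon
  push Not at hcon
  by_cases hmin : P ∈ minimalPrimes S
  · obtain ⟨t, htP, ht⟩ := exists_kill hmin
    have h0 : t = 0 := eq_zero_of_smul M hend (smul_eq_zero_of_values M fun φ x => ht _ (hcon φ x))
    exact htP (h0 ▸ P.zero_mem)
  -- a non-zero-divisor in `P`
  obtain ⟨a, haP, ha⟩ : ∃ a ∈ P, a ∈ nonZeroDivisors S := by
    by_contra hno
    push Not at hno
    have hsub : (P : Set S) ⊆ ⋃ Q ∈ (minimalPrimes.finite_of_isNoetherianRing S).toFinset, (Q : Set S) := by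
      intro a ha
      have hz := hno a ha
      rw [mem_nonZeroDivisors_iff_right] at hz
      push Not at hz
      obtain ⟨y, hy, hy0⟩ := hz
      by_contra hu
      refine hy0 (IsReduced.eq_zero _ (show y ∈ nilradical S from ?_))
      rw [nilradical_eq_sInf, Ideal.mem_sInf]
      intro Q hQ
      haveI : Q.IsPrime := hQ
      obtain ⟨Q', hQ', hle⟩ := Ideal.exists_minimalPrimes_le (bot_le : ⊥ ≤ Q)
      have hQ'p : Q'.IsPrime := hQ'.1.1
      refine hle ((hQ'p.mem_or_mem (hy ▸ Q'.zero_mem : y * a ∈ Q')).resolve_right fun haQ => hu ?_)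
      exact Set.mem_iUnion₂.2 ⟨Q', (Set.Finite.mem_toFinset _).2 hQ', haQ⟩
    obtain ⟨Q, hQ, hPQ⟩ := (Ideal.subset_union_prime ⊥ ⊥ fun Q hQ _ _ =>
      ((Set.Finite.mem_toFinset _).1 hQ).1.1).1 hsub
    have hQm := (Set.Finite.mem_toFinset _).1 hQ
    exact hmin ((le_antisymm hPQ (hQm.2 ⟨inferInstance, bot_le⟩ hPQ)) ▸ hQm)
  -- `P` is minimal over `(a)`, hence the annihilator of an element of `S/(a)`
  have hPmin : P ∈ (Ideal.span {a} : Ideal S).minimalPrimes := by
    refine ⟨⟨inferInstance, (Ideal.span_singleton_le_iff_mem _).2 haP⟩, fun Q hQ hQP => ?_⟩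
    rcases hQP.eq_or_lt with h | h
    · exact h.ge
    · haveI : Q.IsPrime := hQ.1
      have h1 := Ideal.height_add_one_le_of_lt_of_isPrime h
      have hP1 : P.height ≤ 1 := by
        have h2 := (Ideal.height_le_ringKrullDim_of_isPrime (I := P)).trans hdim
        exact_mod_cast h2
      have hQ0 : Q.height = 0 := by
        have h3 : Q.height + 1 ≤ 0 + 1 := by rw [zero_add]; exact h1.trans hP1
        exact nonpos_iff_eq_zero.1 ((ENat.addLECancellable_of_ne_top ENat.one_ne_top).add_le_add_iff_right.1 h3)
      rw [Ideal.height_eq_zero_iff] at hQ0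
      exact absurd ((Ideal.span_singleton_le_iff_mem _).1 hQ.2)
        (fun haQ => (Ideal.disjoint_nonZeroDivisors_of_mem_minimalPrimes hQ0).le_bot ⟨haQ, ha⟩)
  obtain ⟨bq, hbq⟩ : ∃ bq : S ⧸ Ideal.span {a}, P = LinearMap.ker (LinearMap.toSpanSingleton S _ bq) := by
    have hassoc : P ∈ associatedPrimes S (S ⧸ Ideal.span {a}) :=
      Module.associatedPrimes.minimalPrimes_annihilator_subset_associatedPrimes S _ (by rwa [Ideal.annihilator_quotient])
    obtain ⟨-, y, hy⟩ := isAssociatedPrime_iff.1 hassoc
    exact ⟨y, hy.trans (Ideal.ext fun r => by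
      rw [Submodule.mem_colon_singleton, Submodule.mem_bot, LinearMap.mem_ker, LinearMap.toSpanSingleton_apply])⟩
  obtain ⟨b, rfl⟩ := Submodule.Quotient.mk_surjective _ bq
  have hbP : ∀ y ∈ P, ∃ c, c * a = y * b := fun y hy => by
    rw [hbq, LinearMap.mem_ker, LinearMap.toSpanSingleton_apply, ← Submodule.Quotient.mk_smul,
      Submodule.Quotient.mk_eq_zero, Ideal.mem_span_singleton'] at hy
    exact hy
  have hb : ∀ c, c * a ≠ b := fun c hc => (‹P.IsPrime›).ne_top (by
    rw [Ideal.eq_top_iff_one, hbq, LinearMap.mem_ker, LinearMap.toSpanSingleton_apply, one_smul,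
      Submodule.Quotient.mk_eq_zero, Ideal.mem_span_singleton']
    exact ⟨c, hc⟩)
  choose u hu using fun (φ : Module.Dual S M) (x : M) => hbP (φ x) (hcon φ x)
  have cancel : ∀ v w : S, v * a = w * a → v = w := fun v w h =>
    (mul_cancel_right_mem_nonZeroDivisors ha).1 h
  let H : M →ₗ[S] Module.Dual S (Module.Dual S M) :=
    { toFun := fun x =>
        { toFun := fun φ => u φ x
          map_add' := fun φ ψ => cancel _ _ (by rw [add_mul, hu, hu, hu, LinearMap.add_apply, add_mul])
          map_smul' := fun r φ => cancel _ _ (by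
            rw [RingHom.id_apply, smul_eq_mul, mul_assoc, hu, hu, LinearMap.smul_apply, smul_eq_mul, mul_assoc]) }
      map_add' := fun x y => LinearMap.ext fun φ => cancel _ _ (by
        show u φ (x + y) * a = (u φ x + u φ y) * a
        rw [add_mul, hu, hu, hu, map_add, add_mul])
      map_smul' := fun r x => LinearMap.ext fun φ => cancel _ _ (by
        show u φ (r • x) * a = (r * u φ x) * a
        rw [mul_assoc, hu, hu, map_smul, smul_eq_mul, mul_assoc]) }
  obtain ⟨s, hs⟩ := hend.2 ((Module.evalEquiv S M).symm.toLinearMap.comp H)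
  refine hb s (sub_eq_zero.1 (eq_zero_of_smul M hend (smul_eq_zero_of_values M fun φ x => ?_)))
  have h1 : φ (s • x) = u φ x := by
    have h2 := congrArg (fun f : Module.End S M => Module.evalEquiv S M (f x)) hs
    simp only [Module.algebraMap_end_apply, LinearMap.comp_apply, LinearEquiv.coe_coe,
      LinearEquiv.apply_symm_apply] at h2
    exact LinearMap.congr_fun h2 φ
  rw [map_smul, smul_eq_mul] at h1
  rw [sub_mul, mul_comm b, ← hu φ x, ← h1]
  ring

include hdim hend in
/-- Locally the module is free of rank one. -/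
theorem nonempty_equiv (P : Ideal S) [P.IsPrime] :
    Nonempty (LocalizedModule P.primeCompl M ≃ₗ[Localization.AtPrime P] Localization.AtPrime P) := by
  obtain ⟨φ, x, hφx⟩ := exists_notMem M hdim hend P
  obtain ⟨s, hs⟩ := hend.2 (φ.smulRight x)
  have hsz : ∀ z, s • z = φ z • x := fun z => LinearMap.congr_fun hs z
  have hsP : s ∉ P := fun h => hφx (‹P.IsPrime›.mem_or_mem (show φ x * φ x ∈ P from by
    rw [← smul_eq_mul, ← map_smul, ← hsz, map_smul, smul_eq_mul]
    exact P.mul_mem_right _ h) |>.elim id id)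
  let A := Localization.AtPrime P
  let mk := LocalizedModule.mkLinearMap P.primeCompl M
  let F : LocalizedModule P.primeCompl M →ₗ[A] A :=
    IsLocalizedModule.mapExtendScalars P.primeCompl mk (Algebra.linearMap S A) A φ
  have hF : ∀ z, F (mk z) = algebraMap S A (φ z) := fun z =>
    IsLocalizedModule.map_apply P.primeCompl mk (Algebra.linearMap S A) φ z
  obtain ⟨us, hus⟩ := IsLocalization.map_units A (⟨s, hsP⟩ : P.primeCompl)
  let G : A →ₗ[A] LocalizedModule P.primeCompl M := LinearMap.toSpanSingleton A _ ((↑us⁻¹ : A) • mk x)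
  have hGF : ∀ z, G (F (mk z)) = mk z := fun z => by
    rw [hF, LinearMap.toSpanSingleton_apply, smul_comm, algebraMap_smul, ← map_smul, ← hsz, map_smul,
      ← algebraMap_smul A s, ← hus, smul_smul, Units.inv_mul, one_smul]
  refine ⟨LinearEquiv.ofLinearMap F G (LinearMap.ext_ring ?_) (LinearMap.restrictScalars_injective S
    (IsLocalizedModule.ext P.primeCompl mk (IsLocalizedModule.map_units mk) (LinearMap.ext hGF)))⟩
  rw [LinearMap.comp_apply, LinearMap.toSpanSingleton_apply, one_smul, map_smul, hF, LinearMap.id_apply,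
    smul_eq_mul, ← Units.eq_inv_mul_iff_mul_eq, inv_inv, mul_one, hus]
  refine (sub_eq_zero.1 ?_)
  have h2 : (s - φ x) * φ x = 0 := by
    rw [sub_mul, ← smul_eq_mul, ← map_smul, hsz, map_smul, smul_eq_mul, sub_self]
  have h3 : IsUnit (algebraMap S A (φ x)) := IsLocalization.map_units A (⟨φ x, hφx⟩ : P.primeCompl)
  have h4 := congrArg (algebraMap S A) h2
  rw [map_mul, map_sub, map_zero, h3.mul_left_eq_zero] at h4
  rw [← neg_sub, h4, neg_zero]

variable {M} in
omit [IsReduced S] [IsNoetherianRing S] [Module.IsReflexive S M] in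
/-- A module locally free of rank one has only scalar endomorphisms. -/
theorem bijective_algebraMap_end
    (h : ∀ (P : Ideal S) (_ : P.IsPrime),
      Nonempty (LocalizedModule P.primeCompl M ≃ₗ[Localization.AtPrime P] Localization.AtPrime P)) :
    Function.Bijective (algebraMap S (Module.End S M)) := by
  constructor
  · refine (injective_iff_map_eq_zero _).2 fun c hc => ?_
    have hc0 : ∀ x : M, c • x = 0 := fun x => LinearMap.congr_fun hc x
    by_contra hne
    obtain ⟨P, hP, hle⟩ := Ideal.exists_le_maximal (Submodule.annihilator (Submodule.span S {c} : Submodule S S))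
      (fun ht => hne (by
        have h1 : (1 : S) ∈ (Submodule.span S {c} : Submodule S S).annihilator := by rw [ht]; trivial
        have := Submodule.mem_annihilator.1 h1 c (Submodule.subset_span rfl)
        simpa using this))
    obtain ⟨e⟩ := h P hP.isPrime
    obtain ⟨⟨x, t⟩, hxt⟩ := IsLocalizedModule.surj P.primeCompl (LocalizedModule.mkLinearMap P.primeCompl M) (e.symm 1)
    have h1 : algebraMap S (Localization.AtPrime P) (c * t) = 0 := by
      have h2 := congrArg (fun z => e (c • z)) hxt
      simp only [← map_smul (LocalizedModule.mkLinearMap P.primeCompl M), hc0, map_zero, Submonoid.smul_def,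
        smul_smul] at h2
      rw [← h2, ← algebraMap_smul (Localization.AtPrime P) (c * (t : S)) (e.symm 1), map_smul, e.apply_symm_apply,
        smul_eq_mul, mul_one]
    obtain ⟨w, hw⟩ := (IsLocalization.map_eq_zero_iff P.primeCompl (Localization.AtPrime P) _).1 h1
    refine (hP.isPrime.mul_notMem w.2 t.2) (hle (Submodule.mem_annihilator.2 fun y hy => ?_))
    obtain ⟨r, rfl⟩ := Submodule.mem_span_singleton.1 hy
    rw [smul_eq_mul, smul_eq_mul]
    linear_combination r * hw
  · intro f
    obtain ⟨T, hT⟩ := (Module.Finite.fg_top : (⊤ : Submodule S M).FG)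
    let J : Ideal S :=
      { carrier := {t | ∃ r : S, ∀ z, t • f z = r • z}
        zero_mem' := ⟨0, fun z => by rw [zero_smul, zero_smul]⟩
        add_mem' := fun {t t'} ht ht' => by
          obtain ⟨r, hr⟩ := ht
          obtain ⟨r', hr'⟩ := ht'
          exact ⟨r + r', fun z => by rw [add_smul, add_smul, hr, hr']⟩
        smul_mem' := fun q t ht => by
          obtain ⟨r, hr⟩ := ht
          exact ⟨q * r, fun z => by rw [smul_eq_mul, mul_smul, mul_smul, hr]⟩ }
    have hJ : J = ⊤ := by
      by_contra hne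
      obtain ⟨P, hP, hle⟩ := Ideal.exists_le_maximal J hne
      obtain ⟨e⟩ := h P hP.isPrime
      haveI := hP.isPrime
      let A := Localization.AtPrime P
      let mk := LocalizedModule.mkLinearMap P.primeCompl M
      let fA : LocalizedModule P.primeCompl M →ₗ[A] LocalizedModule P.primeCompl M :=
        IsLocalizedModule.mapExtendScalars P.primeCompl mk mk A f
      obtain ⟨⟨r, t⟩, hrt⟩ := IsLocalization.surj P.primeCompl (e (fA (e.symm 1)))
      have key : ∀ z, mk ((t : S) • f z) = mk (r • z) := fun z => e.injective (by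
        rw [map_smul mk, map_smul mk, ← show fA (mk z) = mk (f z) from IsLocalizedModule.map_apply P.primeCompl mk mk f z,
          ← algebraMap_smul A (t : S), ← algebraMap_smul A r, map_smul, map_smul, smul_eq_mul, smul_eq_mul]
        conv_lhs => rw [← e.symm_apply_apply (mk z), ← mul_one (e (mk z)), ← smul_eq_mul (e (mk z)) (1 : A),
          map_smul, map_smul, map_smul, smul_eq_mul]
        rw [← hrt]
        ring)
      choose w hw using fun z => (IsLocalizedModule.eq_iff_exists P.primeCompl mk).1 (key z)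
      refine (‹P.IsPrime›.mul_notMem (x := (∏ z ∈ T, (w z : S))) ?_ t.2) (hle ⟨(∏ z ∈ T, (w z : S)) * r, fun z => ?_⟩)
      · exact (∏ z ∈ T, w z : P.primeCompl).2 |> fun h => by rwa [Submonoid.coe_finsetProd] at h
      · rw [mul_smul, mul_smul]
        refine LinearMap.congr_fun (LinearMap.ext_on (f := (∏ z ∈ T, (w z : S)) • ((t : S) • f))
          (g := (∏ z ∈ T, (w z : S)) • (r • LinearMap.id)) hT fun y hy => ?_) z
        obtain ⟨q, hq⟩ := Finset.dvd_prod_of_mem (fun z => (w z : S)) hy
        simp only [LinearMap.smul_apply, LinearMap.id_apply]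
        rw [hq, mul_comm, mul_smul, mul_smul]
        exact congrArg (q • ·) (hw y)
    obtain ⟨r, hr⟩ := (Ideal.eq_top_iff_one J).1 hJ
    exact ⟨r, LinearMap.ext fun z => by rw [Module.algebraMap_end_apply, ← hr, one_smul]⟩

end Groth.Agent.ReflRankOne
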